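import Groth.Agent.EGA43.FieldBranches.Apply
import Groth.Agent.EGA43.BranchCount.Main

/-! Branch counts under extension of the base field. -/

universe u

set_option autoImplicit false
set_option backward.isDefEq.respectTransparency false
set_option linter.style.haveILetI false

open TensorProduct IsLocalRing

namespace Groth.Agent.EGA43.FieldBranches

theorem isStrictHenselization_comp {A B S : Type u} [CommRing A] [IsLocalRing A] [CommRing B] [IsLocalRing B]
    [CommRing S] [IsLocalRing S] [Algebra B S] [IsLocalHom (algebraMap B S)]
    [hS : Hensel.IsStrictHenselization B S] (e : A ≃+* B) [Algebra A S] [IsLocalHom (algebraMap A S)]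
    (he : ∀ a, algebraMap A S a = algebraMap B S (e a)) : Hensel.IsStrictHenselization A S where
  henselian := hS.henselian
  isSepClosure := by
    haveI := hS.isSepClosure
    refine ⟨IsSepClosure.sep_closed (ResidueField B), ?_⟩
    haveI : Algebra.IsSeparable (ResidueField B) (ResidueField S) := IsSepClosure.separable
    refine Algebra.IsSeparable.of_equiv_equiv (ResidueField.mapEquiv e).symm (RingEquiv.refl (ResidueField S)) ?_
    refine RingHom.ext fun z => ?_
    obtain ⟨b, rfl⟩ := residue_surjective z
    show residue S (algebraMap A S (e.symm b)) = residue S (algebraMap B S b)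
    rw [he, e.apply_symm_apply]
  universal T _ _ f _ τ hτ := by
    haveI : IsLocalHom e.symm.toRingHom :=
      ⟨fun b hb => by simpa using hb.map e⟩
    haveI : IsLocalHom (f.comp e.symm.toRingHom) := RingHom.isLocalHom_comp _ _
    have h' : τ.comp (ResidueField.map (algebraMap B S)) = ResidueField.map (f.comp e.symm.toRingHom) := by
      refine RingHom.ext fun z => ?_
      obtain ⟨b, rfl⟩ := residue_surjective z
      have h := RingHom.congr_fun hτ (residue A (e.symm b))
      simp only [RingHom.comp_apply, ResidueField.map_residue, he, e.apply_symm_apply] at h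
      exact h
    obtain ⟨g, ⟨hg1, hg2⟩, huniq⟩ := hS.universal T (f.comp e.symm.toRingHom) τ h'
    refine ⟨g, ⟨RingHom.ext fun a => ?_, hg2⟩, fun g' hg' => huniq g' ⟨RingHom.ext fun b => ?_, hg'.2⟩⟩
    · rw [RingHom.comp_apply, he]
      exact (RingHom.congr_fun hg1 (e a)).trans (congrArg f (e.symm_apply_apply a))
    · have h := RingHom.congr_fun hg'.1 (e.symm b)
      rw [RingHom.comp_apply, he, e.apply_symm_apply] at h
      exact h

/-- The number of geometric branches is invariant under isomorphism. -/
theorem numGeomBranches_congr {A B : Type u} [CommRing A] [IsLocalRing A] [CommRing B] [IsLocalRing B]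
    (e : A ≃+* B) : Brnch.numGeomBranches A = Brnch.numGeomBranches B := by
  haveI := HenselLib.isStrictHenselization_localSH (R := B)
  letI : Algebra A (HenselLib.LocalSH B) := ((algebraMap B (HenselLib.LocalSH B)).comp e.toRingHom).toAlgebra
  haveI : IsLocalHom (algebraMap A (HenselLib.LocalSH B)) := by
    haveI : IsLocalHom e.toRingHom := ⟨fun a ha => by simpa using ha.map e.symm⟩
    exact RingHom.isLocalHom_comp _ _
  haveI := isStrictHenselization_comp (S := HenselLib.LocalSH B) e fun _ => rfl
  rw [← BranchCount.numGeomBranches_eq (A := A) (HenselLib.LocalSH B),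
    BranchCount.numGeomBranches_eq (A := B) (HenselLib.LocalSH B)]

theorem hasUniqueMinimalPrime_iff_encard {R : Type u} [CommRing R] :
    CAlgX.HasUniqueMinimalPrime R ↔ (minimalPrimes R).encard = 1 := by
  rw [Set.encard_eq_one]
  constructor
  · rintro ⟨p, hp, hu⟩
    exact ⟨p, Set.eq_singleton_iff_unique_mem.2 ⟨hp, hu⟩⟩
  · rintro ⟨p, hp⟩
    obtain ⟨h1, h2⟩ := Set.eq_singleton_iff_unique_mem.1 hp
    exact ⟨p, h1, h2⟩

theorem isGeomUnibranch_iff_numGeomBranches (R : Type u) [CommRing R] [IsLocalRing R] :
    CAlg2.IsGeomUnibranch R ↔ Brnch.numGeomBranches R = 1 := by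
  haveI := HenselLib.isStrictHenselization_localSH (R := R)
  rw [CAlgSmall.UnibranchHull.isGeomUnibranch_iff (Ash := HenselLib.LocalSH R), hasUniqueMinimalPrime_iff_encard,
    BranchCount.numGeomBranches_eq (A := R) (HenselLib.LocalSH R)]

/-- Geometric branches of a local ring and of a localization of its base change to a field extension. -/
theorem numGeomBranches_localRing_baseChange (k : Type u) [Field k] (R : Type u) [CommRing R] [IsLocalRing R]
    [Algebra k R] (K : Type u) [Field K] [Algebra k K] (q : Ideal (R ⊗[k] K)) [q.IsPrime]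
    (hq : q.comap (algebraMap R (R ⊗[k] K)) = maximalIdeal R) :
    Brnch.numGeomBranches R = Brnch.numGeomBranches (Localization.AtPrime q) := by
  haveI := HenselLib.isStrictHenselization_localSH (R := R)
  haveI := HenselLib.isStrictHenselization_localSH (R := Localization.AtPrime q)
  rw [← BranchCount.numGeomBranches_eq (A := R) (HenselLib.LocalSH R),
    ← BranchCount.numGeomBranches_eq (A := Localization.AtPrime q) (HenselLib.LocalSH (Localization.AtPrime q))]
  exact encard_minimalPrimes_strictHenselization k R K q hq

theorem exists_localization_equiv (k A K : Type u) [Field k] [CommRing A] [Algebra k A] [CommRing K] [Algebra k K]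
    (q : Ideal (A ⊗[k] K)) [q.IsPrime] (p : Ideal A) [p.IsPrime] (hp : q.comap (algebraMap A (A ⊗[k] K)) = p) :
    ∃ (q' : Ideal (Localization.AtPrime p ⊗[k] K)) (_ : q'.IsPrime),
      q'.comap (algebraMap (Localization.AtPrime p) (Localization.AtPrime p ⊗[k] K)) =
        maximalIdeal (Localization.AtPrime p) ∧
      Nonempty (Localization.AtPrime q' ≃+* Localization.AtPrime q) := by
  let L := Localization.AtPrime p ⊗[k] K
  let μ : A ⊗[k] K →ₐ[A] L := Algebra.TensorProduct.map (Algebra.ofId A (Localization.AtPrime p)) (AlgHom.id k K)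
  letI := μ.toRingHom.toAlgebra
  haveI : IsScalarTower A (A ⊗[k] K) L := IsScalarTower.of_algebraMap_eq fun a => (μ.commutes a).symm
  haveI : IsLocalization (Algebra.algebraMapSubmonoid (A ⊗[k] K) p.primeCompl) L :=
    IsLocalization.tensorProduct_tensorProduct k K p.primeCompl (Localization.AtPrime p)
      (by
        refine RingHom.ext fun x => ?_
        show μ ((1 : A) ⊗ₜ[k] x) = (1 : Localization.AtPrime p) ⊗ₜ[k] x
        exact (Algebra.TensorProduct.map_tmul _ _ _ _).trans (by rw [map_one]; rfl))
  have hd : Disjoint ((Algebra.algebraMapSubmonoid (A ⊗[k] K) p.primeCompl : Submonoid _) : Set (A ⊗[k] K)) q := by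
    rw [Set.disjoint_left]
    rintro _ ⟨a, ha, rfl⟩ h
    exact ha (hp ▸ h : a ∈ p)
  let q' : Ideal L := q.map (algebraMap (A ⊗[k] K) L)
  haveI : q'.IsPrime := IsLocalization.isPrime_of_isPrime_disjoint _ _ _ inferInstance hd
  have hc : q'.comap (algebraMap (A ⊗[k] K) L) = q :=
    IsLocalization.under_map_of_isPrime_disjoint _ _ inferInstance hd
  refine ⟨q', inferInstance, ?_, ?_⟩
  · have h : (q'.comap (algebraMap (Localization.AtPrime p) L)).comap (algebraMap A (Localization.AtPrime p)) = p := by
      rw [Ideal.comap_comap, ← IsScalarTower.algebraMap_eq, IsScalarTower.algebraMap_eq A (A ⊗[k] K) L,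
        ← Ideal.comap_comap, hc, hp]
    haveI : (q'.comap (algebraMap (Localization.AtPrime p) L)).IsPrime := Ideal.IsPrime.comap _
    rw [← IsLocalization.map_under p.primeCompl (Localization.AtPrime p) (q'.comap (algebraMap (Localization.AtPrime p) L)),
      show Ideal.under A (q'.comap (algebraMap (Localization.AtPrime p) L)) = p from h]
    exact (IsLocalization.AtPrime.map_eq_maximalIdeal p (Localization.AtPrime p))
  · haveI : IsLocalization.AtPrime (Localization.AtPrime q') (q'.comap (algebraMap (A ⊗[k] K) L)) :=
      IsLocalization.isLocalization_isLocalization_atPrime_isLocalization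
        (Algebra.algebraMapSubmonoid (A ⊗[k] K) p.primeCompl) _ q'
    haveI : IsLocalization.AtPrime (Localization.AtPrime q') q := by
      simp only [hc] at *; assumption
    exact ⟨(IsLocalization.algEquiv q.primeCompl (Localization.AtPrime q') (Localization.AtPrime q)).toRingEquiv⟩

/-- Geometric branches are invariant under extension of the base field. -/
theorem numGeomBranches_baseChange (k A K : Type u) [Field k] [CommRing A] [Algebra k A] [Field K] [Algebra k K]
    (q : Ideal (A ⊗[k] K)) [q.IsPrime] (p : Ideal A) [p.IsPrime] (hp : q.comap (algebraMap A (A ⊗[k] K)) = p) :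
    Brnch.numGeomBranches (Localization.AtPrime p) = Brnch.numGeomBranches (Localization.AtPrime q) := by
  obtain ⟨q', _, hq', ⟨e⟩⟩ := exists_localization_equiv k A K q p hp
  rw [numGeomBranches_localRing_baseChange k (Localization.AtPrime p) K q' hq', numGeomBranches_congr e]

end Groth.Agent.EGA43.FieldBranches
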