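import Groth.Agent.EGA43.FieldBranches.Core
import Groth.Agent.CAlgSmall.SmoothBranchesApply

/-! Branches are invariant under extension of the base field. -/

universe u

set_option autoImplicit false
set_option backward.isDefEq.respectTransparency false
set_option linter.style.haveILetI false

open TensorProduct IsLocalRing

namespace Groth.Agent.EGA43.FieldBranches

theorem etale_of_ringHom {A B : Type u} [CommRing A] [CommRing B] (g : A →+* B) (hg : g.Etale) :
    letI := g.toAlgebra
    Algebra.Etale A B := hg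

theorem etale_baseChange (R S C E : Type u) [CommRing R] [CommRing S] [Algebra R S] [CommRing C] [Algebra R C]
    [CommRing E] [Algebra R E] [Algebra S E] [IsScalarTower R S E] [Algebra.Etale S E] :
    ∃ g : S ⊗[R] C →+* C ⊗[R] E, g.Etale := by
  let e : (S ⊗[R] C) ⊗[S] E ≃ₐ[R] C ⊗[R] E :=
    ((((Algebra.TensorProduct.comm S (S ⊗[R] C) E).trans
      ((Algebra.TensorProduct.cancelBaseChange R S E E C).restrictScalars S)).restrictScalars R).trans
      (Algebra.TensorProduct.comm R E C))
  refine ⟨e.toRingEquiv.toRingHom.comp (algebraMap (S ⊗[R] C) ((S ⊗[R] C) ⊗[S] E)), ?_⟩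
  exact RingHom.Etale.respectsIso.1 _ e.toRingEquiv (RingHom.etale_algebraMap.2 inferInstance)

theorem exists_etale_hom (k R C K E : Type u) [Field k] [CommRing R] [Algebra k R] [CommRing C] [Algebra R C]
    [Algebra k C] [IsScalarTower k R C] [Field K] [Algebra k K] [CommRing E] [Algebra R E]
    [Algebra (R ⊗[k] K) E] [IsScalarTower R (R ⊗[k] K) E] [Algebra.Etale (R ⊗[k] K) E] :
    ∃ g : K ⊗[k] C →+* C ⊗[R] E, g.Etale := by
  obtain ⟨g, hg⟩ := etale_baseChange R (R ⊗[k] K) C E
  let e₀ : K ⊗[k] C ≃ₐ[k] (R ⊗[k] K) ⊗[R] C :=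
    ((Algebra.TensorProduct.comm k K C).trans
      ((Algebra.TensorProduct.cancelBaseChange k R C C K).symm.restrictScalars k)).trans
      ((Algebra.TensorProduct.comm R C (R ⊗[k] K)).restrictScalars k)
  exact ⟨g.comp e₀.toRingEquiv.toRingHom, RingHom.Etale.respectsIso.2 g e₀.toRingEquiv hg⟩

theorem hstd (k R K : Type u) [Field k] [CommRing R] [Algebra k R] [Field K] [Algebra k K]
    (C E : Type u) [CommRing C] [IsDomain C] [IsIntegrallyClosed C] [Algebra R C]
    [CommRing E] [Algebra R E] [Algebra (R ⊗[k] K) E] [IsScalarTower R (R ⊗[k] K) E]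
    [Algebra.Etale (R ⊗[k] K) E]
    (M Q₁ Q₂ : Ideal (C ⊗[R] E)) (hM : M.IsPrime) (h₁ : Q₁ ∈ minimalPrimes (C ⊗[R] E))
    (h₂ : Q₂ ∈ minimalPrimes (C ⊗[R] E)) (l₁ : Q₁ ≤ M) (l₂ : Q₂ ≤ M) : Q₁ = Q₂ := by
  letI : Algebra k C := ((algebraMap R C).comp (algebraMap k R)).toAlgebra
  haveI : IsScalarTower k R C := IsScalarTower.of_algebraMap_eq fun _ => rfl
  obtain ⟨g, hg⟩ := exists_etale_hom k R C K E
  letI := g.toAlgebra
  haveI := etale_of_ringHom g hg
  exact eq_of_le_of_etale k C K (C ⊗[R] E) hM h₁ h₂ l₁ l₂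

/-- A local ring and a localization of its base change to a field extension have the same number of
geometric branches. -/
theorem encard_minimalPrimes_strictHenselization (k : Type u) [Field k] (R : Type u) [CommRing R] [IsLocalRing R]
    [Algebra k R] (K : Type u) [Field K] [Algebra k K] (q : Ideal (R ⊗[k] K)) [q.IsPrime]
    (hq : q.comap (algebraMap R (R ⊗[k] K)) = maximalIdeal R)
    {Ash Bsh : Type u} [CommRing Ash] [IsLocalRing Ash] [Algebra R Ash]
    [IsLocalHom (algebraMap R Ash)] [hA : Hensel.IsStrictHenselization R Ash]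
    [CommRing Bsh] [IsLocalRing Bsh] [Algebra (Localization.AtPrime q) Bsh]
    [IsLocalHom (algebraMap (Localization.AtPrime q) Bsh)] [hB : Hensel.IsStrictHenselization (Localization.AtPrime q) Bsh] :
    (minimalPrimes Ash).encard = (minimalPrimes Bsh).encard := by
  letI : Algebra (R ⊗[k] K) Bsh :=
    ((algebraMap (Localization.AtPrime q) Bsh).comp (algebraMap (R ⊗[k] K) (Localization.AtPrime q))).toAlgebra
  haveI : IsScalarTower (R ⊗[k] K) (Localization.AtPrime q) Bsh := IsScalarTower.of_algebraMap_eq fun _ => rfl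
  letI : Algebra R Bsh := ((algebraMap (R ⊗[k] K) Bsh).comp (algebraMap R (R ⊗[k] K))).toAlgebra
  haveI : IsScalarTower R (R ⊗[k] K) Bsh := IsScalarTower.of_algebraMap_eq fun _ => rfl
  haveI := hA.henselian
  haveI := hB.henselian
  haveI := hA.isSepClosure
  haveI := hB.isSepClosure
  haveI : IsSepClosed (ResidueField Ash) := IsSepClosure.sep_closed (ResidueField R)
  haveI : IsSepClosed (ResidueField Bsh) := IsSepClosure.sep_closed (ResidueField (Localization.AtPrime q))
  let φ : R →+* Localization.AtPrime q := (algebraMap (R ⊗[k] K) (Localization.AtPrime q)).comp (algebraMap R (R ⊗[k] K))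
  haveI : IsLocalHom φ := by
    refine ((IsLocalRing.local_hom_TFAE φ).out 0 4).2 ?_
    rw [← Ideal.comap_comap]
    rw [show (maximalIdeal (Localization.AtPrime q)).comap (algebraMap (R ⊗[k] K) (Localization.AtPrime q)) = q from
      IsLocalization.AtPrime.under_maximalIdeal (Localization.AtPrime q) q]
    exact hq
  let f : R →+* Bsh := (algebraMap (Localization.AtPrime q) Bsh).comp φ
  haveI hf : IsLocalHom f := RingHom.isLocalHom_comp _ _
  letI : Algebra (ResidueField R) (ResidueField Bsh) := (ResidueField.map f).toAlgebra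
  let τ : ResidueField Ash →ₐ[ResidueField R] ResidueField Bsh := IsSepClosed.lift
  have hτ : τ.toRingHom.comp (ResidueField.map (algebraMap R Ash)) = ResidueField.map f := τ.comp_algebraMap
  obtain ⟨g, ⟨hg, -⟩, -⟩ := hA.universal Bsh f τ.toRingHom hτ
  letI : Algebra Ash Bsh := g.toAlgebra
  haveI : IsScalarTower R Ash Bsh := IsScalarTower.of_algebraMap_eq fun r => (RingHom.congr_fun hg r).symm
  haveI : IsLocalHom (algebraMap Ash Bsh) := by
    refine ((IsLocalRing.local_hom_TFAE g).out 0 2).2 ?_
    rw [← HenselLib.HensBase.map_maximalIdeal_of_isStrictHenselization R Ash, Ideal.map_map, hg]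
    exact ((IsLocalRing.local_hom_TFAE f).out 0 2).1 hf
  haveI : IsLocalization (⊥ : Submonoid R) R := IsLocalization.self bot_le
  obtain ⟨eA, -⟩ := Et18.SHull.exists_equiv (A := R) (R := Ash) R (⊥ : Submonoid R)
  obtain ⟨eB, -⟩ := Et18.SHull.exists_equiv (A := R ⊗[k] K) (R := Bsh) (Localization.AtPrime q) q.primeCompl
  haveI : Algebra.WeaklyEtale R Ash := HenselLib.weaklyEtale_of_equiv eA
  haveI : Algebra.WeaklyEtale (R ⊗[k] K) Bsh := HenselLib.weaklyEtale_of_equiv eB
  refine encard_minimalPrimes (R := R) (S := R ⊗[k] K) (hstd k R K) (fun L _ _ _ => ?_)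
    (CAlgSmall.SmoothBranches.exists_stage eB)
  haveI : IsPurelyInseparable (ResidueField Ash) L := inferInstance
  exact CAlgSmall.SmoothBranches.subsingleton_of_isPurelyInseparable' (ResidueField Ash) (ResidueField Bsh) L

end Groth.Agent.EGA43.FieldBranches
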