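import Mathlib
import Groth.Prelude.Def_EGA4b
import Groth.Agent.CAlgSmall.GeomNormalPI
import Groth.Agent.CAlgH.ExcellentNormal
import Groth.Agent.Desc19b.NormalSmooth
import Groth.Agent.VarietyLib.GeomField
import Groth.Agent.NormalizationLib.Basic
import Groth.Agent.CommAlg6.FibreAt

/-! Étale algebras over a field extension of a normal domain have one minimal prime below each prime. -/

set_option autoImplicit false
set_option backward.isDefEq.respectTransparency false

universe u

namespace Groth.Agent.EGA43.FieldBranches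

open TensorProduct

/-- A map to a field lifts, after extension, along a map surjective on spectra. -/
theorem exists_field_hom {A A' L : Type u} [CommRing A] [CommRing A'] [Field L] (f : A →+* A')
    (hf : Function.Surjective (PrimeSpectrum.comap f)) (g : A →+* L) :
    ∃ (L' : Type u) (_ : Field L') (e : L →+* L') (h : A' →+* L'), h.comp f = e.comp g := by
  let := f.toAlgebra
  let := g.toAlgebra
  let p : Ideal A := RingHom.ker g
  have hp : p.IsPrime := RingHom.ker_isPrime _
  obtain ⟨⟨P, hP⟩, hPp⟩ := hf ⟨p, hp⟩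
  have : P.LiesOver p := ⟨(congrArg PrimeSpectrum.asIdeal hPp).symm⟩
  let g' : p.ResidueField →+* L := Ideal.ResidueField.lift p g le_rfl (by
    intro x hx
    exact isUnit_iff_ne_zero.2 hx)
  let := g'.toAlgebra
  let ιP : p.ResidueField →+* P.ResidueField :=
    (Ideal.ResidueField.mapₐ p P (Algebra.ofId A A') (P.over_def p)).toRingHom
  let := ιP.toAlgebra
  obtain ⟨M, hM⟩ := Ideal.exists_maximal (L ⊗[p.ResidueField] P.ResidueField)
  let := Ideal.Quotient.field M
  let q := Ideal.Quotient.mk M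
  refine ⟨_, inferInstance, q.comp Algebra.TensorProduct.includeLeftRingHom,
    (q.comp Algebra.TensorProduct.includeRight.toRingHom).comp (algebraMap A' P.ResidueField), ?_⟩
  ext a
  have h1 : algebraMap A' P.ResidueField (f a) = ιP (algebraMap A p.ResidueField a) := by
    show _ = (Ideal.ResidueField.mapₐ p P (Algebra.ofId A A') (P.over_def p)) (algebraMap A p.ResidueField a)
    rw [AlgHom.commutes, IsScalarTower.algebraMap_apply A A' P.ResidueField]
    rfl
  have h2 : g' (algebraMap A p.ResidueField a) = g a := Ideal.ResidueField.lift_algebraMap _ _ _ _ a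
  show q ((1 : L) ⊗ₜ algebraMap A' P.ResidueField (f a)) = q (g a ⊗ₜ 1)
  rw [h1, ← h2]
  congr 1
  exact ((Algebra.TensorProduct.includeRight (R := p.ResidueField) (A := L) (B := P.ResidueField)).commutes _)

/-- Minimal primes below a prime are unique if they are so after a purely inseparable change of rings. -/
theorem eq_of_le_of_radicial {T T2 : Type u} [CommRing T] [CommRing T2] (f : T →+* T2)
    (hpow : ∀ y, ∃ n > 0, y ^ n ∈ f.range) (hsurj : Function.Surjective (PrimeSpectrum.comap f))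
    (hN : EGA4.IsNormalRing T2) {M Q₁ Q₂ : Ideal T} (hM : M.IsPrime)
    (h₁ : Q₁ ∈ minimalPrimes T) (h₂ : Q₂ ∈ minimalPrimes T) (l₁ : Q₁ ≤ M) (l₂ : Q₂ ≤ M) : Q₁ = Q₂ := by
  have hle : ∀ P P' : PrimeSpectrum T2, (PrimeSpectrum.comap f P).asIdeal ≤ (PrimeSpectrum.comap f P').asIdeal →
      P.asIdeal ≤ P'.asIdeal := fun P P' h y hy => by
    obtain ⟨n, hn, x, hx⟩ := hpow y
    have : x ∈ (PrimeSpectrum.comap f P).asIdeal := by
      show f x ∈ P.asIdeal
      rw [hx]
      exact Ideal.pow_mem_of_mem _ hy _ hn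
    have h' : f x ∈ P'.asIdeal := h this
    rw [hx] at h'
    exact P'.2.mem_of_pow_mem _ h'
  obtain ⟨M', hM'⟩ := hsurj ⟨M, hM⟩
  obtain ⟨P₁, hP₁⟩ := hsurj ⟨Q₁, h₁.1.1⟩
  obtain ⟨P₂, hP₂⟩ := hsurj ⟨Q₂, h₂.1.1⟩
  have := (hN M'.asIdeal).1
  have hk : (RingHom.ker (algebraMap T2 (Localization.AtPrime M'.asIdeal))).IsPrime := RingHom.ker_isPrime _
  have key : ∀ (P : PrimeSpectrum T2) (Q : Ideal T), Q ∈ minimalPrimes T → Q ≤ M →
      (PrimeSpectrum.comap f P).asIdeal = Q →
      P.asIdeal = RingHom.ker (algebraMap T2 (Localization.AtPrime M'.asIdeal)) := by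
    intro P Q hQ l hPQ
    have hPM : P.asIdeal ≤ M'.asIdeal := hle _ _ (by rw [hPQ, hM']; exact l)
    have hker : RingHom.ker (algebraMap T2 (Localization.AtPrime M'.asIdeal)) ≤ P.asIdeal := by
      intro w hw
      obtain ⟨s, hs⟩ := (IsLocalization.map_eq_zero_iff M'.asIdeal.primeCompl _ w).1 hw
      exact (P.2.mem_or_mem (hs ▸ Submodule.zero_mem _)).resolve_left fun h => s.2 (hPM h)
    refine le_antisymm (hle P ⟨_, hk⟩ ?_) hker
    rw [hPQ]
    exact hQ.2 ⟨(PrimeSpectrum.comap f ⟨_, hk⟩).2, bot_le⟩ ((Ideal.comap_mono hker).trans hPQ.le)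
  have e₁ := key P₁ Q₁ h₁ l₁ (congrArg PrimeSpectrum.asIdeal hP₁)
  have e₂ := key P₂ Q₂ h₂ l₂ (congrArg PrimeSpectrum.asIdeal hP₂)
  have h := congrArg PrimeSpectrum.asIdeal
    (congrArg (PrimeSpectrum.comap f) (PrimeSpectrum.ext (e₁.trans e₂.symm) : P₁ = P₂))
  rwa [hP₁, hP₂] at h

theorem add_mem_pow (q : ℕ) {R S : Type u} [CommRing R] [CommRing S] (hS : Nontrivial S → ExpChar S q) (f : R →+* S)
    {a b : S} (ha : ∃ n, a ^ q ^ n ∈ f.range) (hb : ∃ n, b ^ q ^ n ∈ f.range) :
    ∃ n, (a + b) ^ q ^ n ∈ f.range := by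
  rcases subsingleton_or_nontrivial S with h | h
  · exact ⟨0, 0, Subsingleton.elim _ _⟩
  obtain ⟨n, x, hx⟩ := ha
  obtain ⟨m, y, hy⟩ := hb
  have : ExpChar S q := hS h
  refine ⟨n + m, x ^ q ^ m + y ^ q ^ n, ?_⟩
  rw [map_add, map_pow, map_pow, hx, hy, add_pow_expChar_pow, ← pow_mul, ← pow_mul, ← pow_add, ← pow_add,
    add_comm m n]

theorem expChar_of_algebra (k : Type u) [Field k] (q : ℕ) [ExpChar k q] (S : Type u) [CommRing S]
    [Algebra k S] [Nontrivial S] : ExpChar S q :=
  expChar_of_injective_ringHom (algebraMap k S).injective q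

theorem pow_mem_range_pow {R S : Type u} [CommRing R] [CommRing S] (f : R →+* S) {a : S} {q n : ℕ}
    (h : a ^ q ^ n ∈ f.range) (m : ℕ) : a ^ q ^ (n + m) ∈ f.range := by
  rw [pow_add, pow_mul]
  exact pow_mem h _

/-- The core of `eq_of_le_of_etale`, with the auxiliary rings given. -/
theorem eq_of_le_of_etale_aux (k : Type u) [Field k] (q : ℕ) [ExpChar k q] (C : Type u) [CommRing C]
    [Algebra k C] (K : Type u) [Field K] [Algebra k K] (T : Type u) [CommRing T] [Algebra (K ⊗[k] C) T]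
    [Algebra.Etale (K ⊗[k] C) T]
    (kp K' C2 : Type u) [Field kp] [PerfectField kp] [Algebra k kp] [IsPurelyInseparable k kp]
    [Field K'] [Algebra k K'] [Algebra K K'] [IsScalarTower k K K'] [IsPurelyInseparable K K']
    [Algebra kp K'] [IsScalarTower k kp K']
    [CommRing C2] [IsDomain C2] [IsIntegrallyClosed C2] [Algebra C C2] [Algebra k C2] [IsScalarTower k C C2]
    [Algebra kp C2] [IsScalarTower k kp C2] [Algebra.IsIntegral C C2]
    (hCinj : Function.Injective (algebraMap C C2))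
    (hC : ∀ c : C2, ∃ n, c ^ q ^ n ∈ (algebraMap C C2).range)
    {M Q₁ Q₂ : Ideal T} (hM : M.IsPrime)
    (h₁ : Q₁ ∈ minimalPrimes T) (h₂ : Q₂ ∈ minimalPrimes T) (l₁ : Q₁ ≤ M) (l₂ : Q₂ ≤ M) : Q₁ = Q₂ := by
  classical
  have hqpos : 0 < q := expChar_pos k q
  -- normality upstairs
  have hN : EGA4.IsNormalRing (K' ⊗[kp] C2) := by
    refine (CAlgSmall.GeomNormalPI.geometricallyNormal_iff kp C2).2 (fun k' _ _ hfin hpi => ?_) K'
    have := hfin
    have := hpi
    have hb : Function.Bijective (algebraMap kp k') :=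
      ⟨(algebraMap kp k').injective, IsPurelyInseparable.surjective_algebraMap_of_isSeparable kp k'⟩
    let e : k' ⊗[kp] C2 ≃ₐ[kp] C2 :=
      (Algebra.TensorProduct.congr (AlgEquiv.ofBijective (Algebra.ofId kp k') hb).symm AlgEquiv.refl).trans
        (Algebra.TensorProduct.lid kp C2)
    exact CommAlg6.isNormalRing_of_ringEquiv e.symm.toRingEquiv
      (CAlgH.ExcellentNormal.isNormalRing_of_isIntegrallyClosed C2)
  let a : K →ₐ[k] K' ⊗[kp] C2 :=
    (((Algebra.TensorProduct.includeLeft : K' →ₐ[kp] K' ⊗[kp] C2).restrictScalars k).comp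
      (IsScalarTower.toAlgHom k K K'))
  let b : C →ₐ[k] K' ⊗[kp] C2 :=
    (((Algebra.TensorProduct.includeRight : C2 →ₐ[kp] K' ⊗[kp] C2).restrictScalars k).comp
      (IsScalarTower.toAlgHom k C C2))
  let f₀ : K ⊗[k] C →ₐ[k] K' ⊗[kp] C2 := Algebra.TensorProduct.lift a b fun _ _ => Commute.all _ _
  have hK : ∀ x : K', ∃ n, x ^ q ^ n ∈ (algebraMap K K').range := fun x => by
    have : ExpChar K q := expChar_of_injective_ringHom (algebraMap k K).injective q
    exact IsPurelyInseparable.pow_mem K q x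
  have hpow₀ : ∀ y, ∃ n, y ^ q ^ n ∈ f₀.toRingHom.range := by
    intro y
    induction y using TensorProduct.induction_on with
    | zero => exact ⟨0, 0, by simp⟩
    | tmul x c =>
      obtain ⟨n, hn⟩ := hK x
      obtain ⟨m, hm⟩ := hC c
      obtain ⟨x₀, hx₀⟩ := pow_mem_range_pow _ hn m
      obtain ⟨c₀, hc₀⟩ := pow_mem_range_pow _ hm n
      refine ⟨n + m, x₀ ⊗ₜ c₀, ?_⟩
      show f₀ (x₀ ⊗ₜ c₀) = _
      rw [Algebra.TensorProduct.tmul_pow, ← hx₀, add_comm n m, ← hc₀]
      simp [f₀, a, b]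
    | add y z hy hz =>
      exact add_mem_pow q (fun _ => expChar_of_algebra k q _) _ hy hz
  have hsurjC : Function.Surjective (PrimeSpectrum.comap (algebraMap C C2)) := fun p => by
    obtain ⟨Q, -, hQ, hQc⟩ := Ideal.exists_ideal_over_prime_of_isIntegral p.asIdeal (⊥ : Ideal C2) (by
      rw [← RingHom.ker_eq_comap_bot, (RingHom.injective_iff_ker_eq_bot _).1 hCinj]
      exact bot_le)
    exact ⟨⟨Q, hQ⟩, PrimeSpectrum.ext hQc⟩
  have hsurjK : Function.Surjective (PrimeSpectrum.comap (algebraMap K K')) := fun p =>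
    ⟨⟨⊥, Ideal.isPrime_bot⟩, Subsingleton.elim _ _⟩
  have hsurj₀ : Function.Surjective (PrimeSpectrum.comap f₀.toRingHom) := by
    intro P
    let χ : K ⊗[k] C →+* P.asIdeal.ResidueField := algebraMap _ _
    obtain ⟨L₁, _, e₁, hC2, h1⟩ := exists_field_hom (algebraMap C C2) hsurjC
      (χ.comp Algebra.TensorProduct.includeRight.toRingHom)
    obtain ⟨L₂, _, e₂, hK', h2⟩ := exists_field_hom (algebraMap K K') hsurjK
      (e₁.comp (χ.comp Algebra.TensorProduct.includeLeftRingHom))
    have hC1 : ∀ c, hC2 (algebraMap C C2 c) = e₁ (χ ((1 : K) ⊗ₜ c)) := RingHom.congr_fun h1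
    have hK1 : ∀ x, hK' (algebraMap K K' x) = e₂ (e₁ (χ (x ⊗ₜ (1 : C)))) := RingHom.congr_fun h2
    let : Algebra k L₂ := (hK'.comp (algebraMap k K')).toAlgebra
    let l : K' →ₐ[k] L₂ := { hK' with commutes' := fun _ => rfl }
    let r : C2 →ₐ[k] L₂ :=
      { e₂.comp hC2 with
        commutes' := fun t => by
          show e₂ (hC2 (algebraMap k C2 t)) = hK' (algebraMap k K' t)
          rw [IsScalarTower.algebraMap_apply k C C2, IsScalarTower.algebraMap_apply k K K', hC1, hK1]
          congr 3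
          exact (((Algebra.TensorProduct.includeRight : C →ₐ[k] K ⊗[k] C).commutes t).trans rfl) }
    let G : K' ⊗[k] C2 →ₐ[k] L₂ := Algebra.TensorProduct.lift l r fun _ _ => Commute.all _ _
    obtain ⟨P2, hP2⟩ := VarietyLib.comap_surjective_of_isPurelyInseparable k kp K' C2
      ⟨RingHom.ker G.toRingHom, RingHom.ker_isPrime _⟩
    refine ⟨P2, PrimeSpectrum.ext ?_⟩
    let m : K ⊗[k] C →ₐ[k] K' ⊗[k] C2 :=
      Algebra.TensorProduct.map (IsScalarTower.toAlgHom k K K') (IsScalarTower.toAlgHom k C C2)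
    let π : K' ⊗[k] C2 →ₐ[k] K' ⊗[kp] C2 := Algebra.TensorProduct.lift
        ((Algebra.TensorProduct.includeLeft : K' →ₐ[kp] K' ⊗[kp] C2).restrictScalars k)
        ((Algebra.TensorProduct.includeRight : C2 →ₐ[kp] K' ⊗[kp] C2).restrictScalars k)
        fun _ _ => Commute.all _ _
    have hfm : f₀ = π.comp m := by
      refine Algebra.TensorProduct.ext (AlgHom.ext fun x => ?_) (AlgHom.ext fun x => ?_) <;>
        simp [f₀, a, b, m, π]
    have hGm : ∀ z, G (m z) = e₂ (e₁ (χ z)) := by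
      intro z
      induction z using TensorProduct.induction_on with
      | zero => simp
      | tmul x c =>
        show G (algebraMap K K' x ⊗ₜ algebraMap C C2 c) = _
        rw [show x ⊗ₜ[k] c = (x ⊗ₜ (1 : C)) * ((1 : K) ⊗ₜ c) by simp, map_mul, map_mul, map_mul, ← hK1, ← hC1]
        simp [G, l, r]
      | add x y hx hy => simp only [map_add, hx, hy]
    show Ideal.comap f₀.toRingHom P2.asIdeal = P.asIdeal
    rw [hfm]
    show Ideal.comap m.toRingHom (Ideal.comap π.toRingHom P2.asIdeal) = P.asIdeal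
    rw [show Ideal.comap π.toRingHom P2.asIdeal = RingHom.ker G.toRingHom from congrArg PrimeSpectrum.asIdeal hP2]
    ext z
    show G (m z) = 0 ↔ _
    rw [hGm, map_eq_zero_iff _ e₂.injective, map_eq_zero_iff _ e₁.injective,
      Ideal.algebraMap_residueField_eq_zero]
  let : Algebra (K ⊗[k] C) (K' ⊗[kp] C2) := f₀.toRingHom.toAlgebra
  have : IsScalarTower k (K ⊗[k] C) (K' ⊗[kp] C2) :=
    IsScalarTower.of_algebraMap_eq fun x => (f₀.commutes x).symm
  let T2 := (K' ⊗[kp] C2) ⊗[K ⊗[k] C] T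
  refine eq_of_le_of_radicial (Algebra.TensorProduct.includeRight : T →ₐ[K ⊗[k] C] T2).toRingHom ?_ ?_
    (Desc19b.isNormalRing_of_smooth (K' ⊗[kp] C2) T2 hN) hM h₁ h₂ l₁ l₂
  · suffices h : ∀ y : T2, ∃ n, y ^ q ^ n ∈
        (Algebra.TensorProduct.includeRight : T →ₐ[K ⊗[k] C] T2).toRingHom.range by
      intro y
      obtain ⟨n, hn⟩ := h y
      exact ⟨q ^ n, pow_pos hqpos n, hn⟩
    intro y
    induction y using TensorProduct.induction_on with
    | zero => exact ⟨0, 0, by simp⟩
    | tmul x t =>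
      obtain ⟨n, z, hz⟩ := hpow₀ x
      refine ⟨n, z • t ^ q ^ n, ?_⟩
      rw [Algebra.TensorProduct.tmul_pow, ← hz]
      show (1 : K' ⊗[kp] C2) ⊗ₜ (z • t ^ q ^ n) = algebraMap (K ⊗[k] C) (K' ⊗[kp] C2) z ⊗ₜ _
      rw [← TensorProduct.smul_tmul, Algebra.algebraMap_eq_smul_one]
    | add y z hy hz => exact add_mem_pow q (fun _ => expChar_of_algebra k q T2) _ hy hz
  · intro P
    let χ : T →+* P.asIdeal.ResidueField := algebraMap _ _
    obtain ⟨L, _, e, h, he⟩ := exists_field_hom f₀.toRingHom hsurj₀ (χ.comp (algebraMap (K ⊗[k] C) T))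
    let : Algebra (K ⊗[k] C) L := (h.comp f₀.toRingHom).toAlgebra
    let l : K' ⊗[kp] C2 →ₐ[K ⊗[k] C] L := { h with commutes' := fun _ => rfl }
    let r : T →ₐ[K ⊗[k] C] L :=
      { e.comp χ with commutes' := fun z => (RingHom.congr_fun he z).symm }
    let G : T2 →ₐ[K ⊗[k] C] L := Algebra.TensorProduct.lift l r fun _ _ => Commute.all _ _
    refine ⟨⟨RingHom.ker G.toRingHom, RingHom.ker_isPrime _⟩, PrimeSpectrum.ext ?_⟩
    ext t
    show G ((1 : K' ⊗[kp] C2) ⊗ₜ t) = 0 ↔ _
    rw [show G ((1 : K' ⊗[kp] C2) ⊗ₜ t) = e (χ t) from (Algebra.TensorProduct.lift_tmul l r _ _ _).trans (by rw [map_one, one_mul]; rfl), map_eq_zero_iff _ e.injective,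
      Ideal.algebraMap_residueField_eq_zero]

/-- `eq_of_le_of_etale_aux`, with a homomorphism in place of the algebra structure. -/
theorem eq_of_le_of_etale_hom (k : Type u) [Field k] (q : ℕ) [ExpChar k q] (C : Type u) [CommRing C]
    [Algebra k C] (K : Type u) [Field K] [Algebra k K] (T : Type u) [CommRing T] [Algebra (K ⊗[k] C) T]
    [Algebra.Etale (K ⊗[k] C) T]
    (kp K' C2 : Type u) [Field kp] [PerfectField kp] [Algebra k kp] [IsPurelyInseparable k kp]
    [Field K'] [Algebra k K'] [Algebra K K'] [IsScalarTower k K K'] [IsPurelyInseparable K K']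
    [Algebra kp K'] [IsScalarTower k kp K']
    [CommRing C2] [IsDomain C2] [IsIntegrallyClosed C2] [Algebra C C2] [Algebra k C2] [IsScalarTower k C C2]
    [Algebra.IsIntegral C C2] (θ : kp →ₐ[k] C2)
    (hCinj : Function.Injective (algebraMap C C2))
    (hC : ∀ c : C2, ∃ n, c ^ q ^ n ∈ (algebraMap C C2).range)
    {M Q₁ Q₂ : Ideal T} (hM : M.IsPrime)
    (h₁ : Q₁ ∈ minimalPrimes T) (h₂ : Q₂ ∈ minimalPrimes T) (l₁ : Q₁ ≤ M) (l₂ : Q₂ ≤ M) : Q₁ = Q₂ := by
  let : Algebra kp C2 := θ.toRingHom.toAlgebra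
  have : IsScalarTower k kp C2 := IsScalarTower.of_algebraMap_eq fun r => (θ.commutes r).symm
  exact eq_of_le_of_etale_aux k q C K T kp K' C2 hCinj hC hM h₁ h₂ l₁ l₂

/-- The normalization in the perfect closure of the fraction field. -/
theorem exists_normal_pi (k : Type u) [Field k] (q : ℕ) [ExpChar k q] (C : Type u) [CommRing C] [IsDomain C]
    [IsIntegrallyClosed C] [Algebra k C] (F : Type u) [Field F] [Algebra C F] [IsFractionRing C F]
    [Algebra k F] [IsScalarTower k C F] (F' : Type u) [Field F'] [PerfectField F'] [Algebra F F']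
    [IsPurelyInseparable F F'] [Algebra C F'] [IsScalarTower C F F'] [Algebra k F'] [IsScalarTower k C F']
    (kp : Type u) [Field kp] [Algebra k kp] [IsPurelyInseparable k kp] :
    IsIntegrallyClosed (integralClosure C F') ∧ Function.Injective (algebraMap C (integralClosure C F')) ∧
      (∀ c : integralClosure C F', ∃ n, c ^ q ^ n ∈ (algebraMap C (integralClosure C F')).range) ∧
      Nonempty (kp →ₐ[k] integralClosure C F') := by
  refine ⟨NormalizationLib.isIntegrallyClosed_integralClosure C F', fun x y h =>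
    IsFractionRing.injective C F ((algebraMap F F').injective ?_), fun c => ?_, ?_⟩
  · rw [← IsScalarTower.algebraMap_apply, ← IsScalarTower.algebraMap_apply]
    exact congrArg Subtype.val h
  · have : ExpChar F q := expChar_of_injective_ringHom (algebraMap k F).injective q
    obtain ⟨n, y, hy⟩ := IsPurelyInseparable.pow_mem F q (c : F')
    have hint : IsIntegral C y := (isIntegral_algHom_iff (IsScalarTower.toAlgHom C F F')
      (algebraMap F F').injective).1 (by
        show IsIntegral C (algebraMap F F' y)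
        rw [hy]
        exact (c.2 : IsIntegral C (c : F')).pow _)
    obtain ⟨z, hz⟩ := IsIntegrallyClosed.isIntegral_iff.1 hint
    refine ⟨n, z, Subtype.ext ?_⟩
    show algebraMap C F' z = (c : F') ^ q ^ n
    rw [IsScalarTower.algebraMap_apply C F F', hz, hy]
  · obtain ⟨θ⟩ : Nonempty (kp →ₐ[k] F') := inferInstance
    exact ⟨θ.codRestrict ((integralClosure C F').restrictScalars k) fun x =>
      (((Algebra.IsIntegral.isIntegral (R := k) x).map θ).tower_top (A := C) : IsIntegral C (θ x))⟩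

/-- Étale algebras over a field extension of a normal domain. -/
theorem eq_of_le_of_etale (k : Type u) [Field k] (C : Type u) [CommRing C] [IsDomain C] [IsIntegrallyClosed C]
    [Algebra k C] (K : Type u) [Field K] [Algebra k K] (T : Type u) [CommRing T] [Algebra (K ⊗[k] C) T]
    [Algebra.Etale (K ⊗[k] C) T] {M Q₁ Q₂ : Ideal T} (hM : M.IsPrime)
    (h₁ : Q₁ ∈ minimalPrimes T) (h₂ : Q₂ ∈ minimalPrimes T) (l₁ : Q₁ ≤ M) (l₂ : Q₂ ≤ M) : Q₁ = Q₂ := by
  obtain ⟨q, _⟩ := ExpChar.exists k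
  let K' := perfectClosure K (AlgebraicClosure K)
  let kp := perfectClosure k K'
  let F := FractionRing C
  let F' := perfectClosure F (AlgebraicClosure F)
  let : Algebra C F' := ((algebraMap F F').comp (algebraMap C F)).toAlgebra
  let : Algebra k F' := ((algebraMap C F').comp (algebraMap k C)).toAlgebra
  have : IsScalarTower C F F' := IsScalarTower.of_algebraMap_eq fun _ => rfl
  have : IsScalarTower k C F' := IsScalarTower.of_algebraMap_eq fun _ => rfl
  obtain ⟨hn, hinj, hC, ⟨θ⟩⟩ := exists_normal_pi k q C F F' kp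
  have : Algebra.IsIntegral C (integralClosure C F') :=
    ⟨fun c => (isIntegral_algHom_iff (integralClosure C F').val Subtype.val_injective).1 c.2⟩
  exact eq_of_le_of_etale_hom k q C K T kp K' (integralClosure C F') θ hinj hC hM h₁ h₂ l₁ l₂

end Groth.Agent.EGA43.FieldBranches
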