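import Groth.Prelude.Def_Curv2
import Groth.Agent.EGA43.FieldBranches.Count

/-! Branches of a base change of a scheme over a field. -/

universe u

set_option autoImplicit false
set_option backward.isDefEq.respectTransparency false

open CategoryTheory CategoryTheory.Limits AlgebraicGeometry TensorProduct

namespace Groth.Agent.EGA43.FieldBranches

theorem numGeomBranchesAt_spec (R : Type u) [CommRing R] (q : PrimeSpectrum R) :
    Brnch.numGeomBranchesAt (Spec (CommRingCat.of R)) q = Brnch.numGeomBranches (Localization.AtPrime q.asIdeal) :=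
  by
  let e : Localization.AtPrime q.asIdeal ≃+* (Spec (CommRingCat.of R)).presheaf.stalk q :=
    (StructureSheaf.stalkIso R q).toRingEquiv
  exact (numGeomBranches_congr e).symm

theorem numGeomBranchesAt_openImmersion {Y Z : Scheme.{u}} (j : Y ⟶ Z) [IsOpenImmersion j] (y : Y) :
    Brnch.numGeomBranchesAt Z (j y) = Brnch.numGeomBranchesAt Y y :=
  numGeomBranches_congr (asIso (j.stalkMap y)).commRingCatIsoToRingEquiv

theorem numGeomBranchesAt_baseChange (k : Type u) [Field k] (X : Scheme.{u}) [X.Over (Spec (CommRingCat.of k))]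
    (K : Type u) [Field K] [Algebra k K] (y : ↥(Curv2.bc k X K)) :
    Brnch.numGeomBranchesAt X ((Curv2.bcFst k X K).base y) = Brnch.numGeomBranchesAt (Curv2.bc k X K) y := by
  let x := Curv2.bcFst k X K y
  obtain ⟨_, ⟨U, hU, rfl⟩, hxU, -⟩ :=
    X.isBasis_affineOpens.exists_subset_of_mem_open (Set.mem_univ x) isOpen_univ
  obtain ⟨φ, hφ⟩ := Spec.map_surjective (hU.fromSpec ≫ (X ↘ Spec (CommRingCat.of k)))
  let : Algebra k Γ(X, U) := φ.hom.toAlgebra
  let sA := Spec.map (CommRingCat.ofHom (algebraMap k Γ(X, U)))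
  have hφ' : hU.fromSpec ≫ (X ↘ Spec (CommRingCat.of k)) = sA := hφ.symm
  let s := Spec.map (CommRingCat.ofHom (algebraMap k K))
  let m : pullback sA s ⟶ Curv2.bc k X K :=
    pullback.map _ _ _ _ hU.fromSpec (𝟙 _) (𝟙 _) (by rw [Category.comp_id, hφ']) (by simp [s])
  have hm : IsPullback m (pullback.fst sA s) (Curv2.bcFst k X K) hU.fromSpec := by
    refine IsPullback.of_right ?_ (pullback.lift_fst _ _ _) (IsPullback.of_hasPullback _ s).flip
    rw [show m ≫ pullback.snd (X ↘ Spec (CommRingCat.of k)) s = pullback.snd sA s from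
      (pullback.lift_snd _ _ _).trans (Category.comp_id _), hφ']
    exact (IsPullback.of_hasPullback sA s).flip
  have : IsOpenImmersion m := MorphismProperty.of_isPullback (P := @IsOpenImmersion) hm.flip inferInstance
  let j := (pullbackSpecIso k Γ(X, U) K).inv ≫ m
  obtain ⟨a, ha⟩ := hU.range_fromSpec.ge (show x ∈ U from hxU)
  obtain ⟨c, hc, -⟩ := Scheme.Pullback.exists_preimage_pullback (f := Curv2.bcFst k X K) (g := hU.fromSpec) y a ha.symm
  obtain ⟨w, hw⟩ : ∃ w, j w = y := ⟨((pullbackSpecIso k Γ(X, U) K).hom) (hm.isoPullback.inv c), by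
    rw [← Scheme.Hom.comp_apply, show (pullbackSpecIso k Γ(X, U) K).hom ≫ j = m by simp [j],
      ← Scheme.Hom.comp_apply, hm.isoPullback_inv_fst, hc]⟩
  have hjf : j ≫ Curv2.bcFst k X K = Spec.map (CommRingCat.ofHom (algebraMap Γ(X, U) (Γ(X, U) ⊗[k] K))) ≫
      hU.fromSpec := by
    show ((pullbackSpecIso k Γ(X, U) K).inv ≫ m) ≫ _ = _
    rw [Category.assoc, show m ≫ Curv2.bcFst k X K = pullback.fst sA s ≫ hU.fromSpec from pullback.lift_fst _ _ _,
      ← Category.assoc, pullbackSpecIso_inv_fst]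
    rfl
  have hpt : hU.fromSpec (PrimeSpectrum.comap (algebraMap Γ(X, U) (Γ(X, U) ⊗[k] K)) w) = Curv2.bcFst k X K y := by
    rw [← hw, ← Scheme.Hom.comp_apply, hjf]
    rfl
  show Brnch.numGeomBranchesAt X (Curv2.bcFst k X K y) = _
  rw [← hpt, ← hw, numGeomBranchesAt_openImmersion, numGeomBranchesAt_openImmersion]
  erw [numGeomBranchesAt_spec, numGeomBranchesAt_spec]
  exact numGeomBranches_baseChange k Γ(X, U) K w.asIdeal _ rfl

end Groth.Agent.EGA43.FieldBranches
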